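import Mathlib

/-!
# Coprime actions: the counting bound

If `V` is a finite abelian `p'`-group, `c a c⁻¹ = z a` with `z` commuting with `a` and `c`, `z ^ p = 1`
and the nontrivial powers of `z` act without fixed points, then the fixed points `W` of `c`
satisfy `|W| ^ p ≤ |V|`.
-/

set_option autoImplicit false

namespace Cfsg.Agent.Lib.PCompl.Bound

open Finset

variable {A V : Type*} [Group A] [CommGroup V] [Finite V] [MulDistribMulAction A V]

/-- Fixed points of an element. -/
def Fx (c : A) : Subgroup V where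
  carrier := {v | c • v = v}
  mul_mem' := by
    intro a b ha hb
    simp only [Set.mem_ofPred_eq] at ha hb ⊢
    rw [smul_mul', ha, hb]
  one_mem' := by simp
  inv_mem' := by
    intro a ha
    simp only [Set.mem_ofPred_eq] at ha ⊢
    rw [smul_inv', ha]

lemma mem_Fx {c : A} {v : V} : v ∈ Fx c ↔ c • v = v := Iff.rfl

/-- Norms are fixed. -/
lemma norm_fixed {y : A} {p : ℕ} (hy : y ^ p = 1) (v : V) :
    y • ∏ k ∈ range p, y ^ k • v = ∏ k ∈ range p, y ^ k • v := by
  rw [Finset.smul_prod']
  have h1 : ∀ k, y • (y ^ k • v) = y ^ (k + 1) • v := by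
    intro k
    rw [← mul_smul, pow_succ']
  simp_rw [h1]
  have e1 := Finset.prod_range_succ (fun k => y ^ k • v) p
  have e2 := Finset.prod_range_succ' (fun k => y ^ k • v) p
  simp only [hy, pow_zero, one_smul] at e1 e2
  exact mul_right_cancel (e2.symm.trans e1)

lemma act_base {a c z : A} (hrel : c * a * c⁻¹ = z * a) (hza : z * a = a * z) {w : V}
    (hw : c • w = w) (i : ℕ) : c • (a ^ i • w) = z ^ i • (a ^ i • w) := by
  have h1 : c * a ^ i * c⁻¹ = z ^ i * a ^ i := by
    rw [← conj_pow, hrel, (show Commute z a from hza).mul_pow]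
  calc c • (a ^ i • w) = (c * a ^ i * c⁻¹) • (c • w) := by
        rw [← mul_smul, ← mul_smul, inv_mul_cancel_right]
    _ = z ^ i • (a ^ i • w) := by rw [h1, hw, mul_smul]

lemma act_pow {a c z : A} (hrel : c * a * c⁻¹ = z * a) (hza : z * a = a * z) (hzc : z * c = c * z)
    {w : V} (hw : c • w = w) (i k : ℕ) : c ^ k • (a ^ i • w) = z ^ (i * k) • (a ^ i • w) := by
  induction k with
  | zero => simp
  | succ k ih =>
    have h1 : Commute c (z ^ (i * k)) := ((show Commute z c from hzc).pow_left _).symm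
    rw [pow_succ', mul_smul, ih, ← mul_smul, h1.eq, mul_smul, act_base hrel hza hw, ← mul_smul,
      ← pow_add]
    congr 2

/-- Kernel of the product map. -/
lemma kernel_trivial {a c z : A} {p : ℕ} [hp : Fact p.Prime] (hcop : (Nat.card V).Coprime p)
    (hrel : c * a * c⁻¹ = z * a) (hza : z * a = a * z) (hzc : z * c = c * z) (hzp : z ^ p = 1)
    (hfix : ∀ l : ℕ, ¬ p ∣ l → ∀ v : V, z ^ l • v = v → v = 1) (q : Fin p → V)
    (hq : ∀ i, c • q i = q i) (h0 : ∏ i : Fin p, a ^ (i : ℕ) • q i = 1) (j : Fin p) : q j = 1 := by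
  set u : Fin p → V := fun i => a ^ (i : ℕ) • q i with hu
  have h1 : ∀ k : ℕ, ∏ i : Fin p, z ^ ((i : ℕ) * k) • u i = 1 := by
    intro k
    have h2 := congrArg (fun v : V => c ^ k • v) h0
    simp only [smul_one, Finset.smul_prod'] at h2
    rw [← h2]
    apply Finset.prod_congr rfl
    intro i _
    exact (act_pow hrel hza hzc (hq i) i k).symm
  have h3 : ∀ k : ℕ, ∏ i : Fin p, z ^ (((i : ℕ) + (p - j)) * k) • u i = 1 := by
    intro k
    have h2 := congrArg (fun v : V => z ^ ((p - j) * k) • v) (h1 k)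
    simp only [smul_one, Finset.smul_prod'] at h2
    rw [← h2]
    apply Finset.prod_congr rfl
    intro i _
    rw [smul_smul (z ^ ((p - (j : ℕ)) * k)), ← pow_add]
    congr 2
    ring
  have h4 : ∏ k ∈ range p, ∏ i : Fin p, z ^ (((i : ℕ) + (p - j)) * k) • u i = 1 :=
    Finset.prod_eq_one (fun k _ => h3 k)
  rw [Finset.prod_comm] at h4
  have h5 : ∀ i : Fin p, i ≠ j → ∏ k ∈ range p, z ^ (((i : ℕ) + (p - j)) * k) • u i = 1 := by
    intro i hij
    set l := (i : ℕ) + (p - j) with hl
    have hlp : ¬ p ∣ l := by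
      have hi := i.2
      have hj := j.2
      have hne : (i : ℕ) ≠ j := fun h => hij (Fin.ext h)
      intro hd
      obtain ⟨t, ht⟩ := hd
      have h6 : t = 1 := by
        have : p * t < p * 2 := by omega
        have h7 : t < 2 := lt_of_mul_lt_mul_left this (Nat.zero_le _)
        have h8 : t ≠ 0 := by
          rintro rfl
          omega
        omega
      rw [h6] at ht
      omega
    have h6 : (z ^ l) ^ p = 1 := by
      rw [← pow_mul, mul_comm, pow_mul, hzp, one_pow]
    have h7 := norm_fixed h6 (u i)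
    have h8 : ∏ k ∈ range p, z ^ (l * k) • u i = ∏ k ∈ range p, (z ^ l) ^ k • u i := by
      apply Finset.prod_congr rfl
      intro k _
      rw [pow_mul]
    rw [h8]
    exact hfix l hlp _ h7
  rw [Finset.prod_eq_single j (fun i _ hij => h5 i hij) (by simp)] at h4
  have h6 : ∀ k ∈ range p, z ^ (((j : ℕ) + (p - j)) * k) • u j = u j := by
    intro k _
    have hj := j.2
    rw [show (j : ℕ) + (p - j) = p by omega, pow_mul, hzp, one_pow, one_smul]
  rw [Finset.prod_congr rfl h6, Finset.prod_const, Finset.card_range] at h4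
  have h7 : orderOf (u j) ∣ p := orderOf_dvd_of_pow_eq_one h4
  have h8 : orderOf (u j) ∣ Nat.card V := orderOf_dvd_natCard _
  have h9 : orderOf (u j) = 1 := Nat.eq_one_of_dvd_coprimes hcop h8 h7
  have h10 : u j = 1 := orderOf_eq_one_iff.1 h9
  have h11 := congrArg (fun v : V => (a ^ (j : ℕ))⁻¹ • v) h10
  simpa [hu] using h11

/-- The counting bound. -/
theorem card_Fx_pow_le {a c z : A} {p : ℕ} [hp : Fact p.Prime] (hcop : (Nat.card V).Coprime p)
    (hrel : c * a * c⁻¹ = z * a) (hza : z * a = a * z) (hzc : z * c = c * z) (hzp : z ^ p = 1)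
    (hfix : ∀ l : ℕ, ¬ p ∣ l → ∀ v : V, z ^ l • v = v → v = 1) :
    Nat.card (Fx (V := V) c) ^ p ≤ Nat.card V := by
  let f : (Fin p → Fx (V := V) c) → V := fun w => ∏ i : Fin p, a ^ (i : ℕ) • (w i : V)
  have hf : Function.Injective f := by
    intro w w' h
    funext j
    apply Subtype.ext
    have h1 : ∏ i : Fin p, a ^ (i : ℕ) • ((w i : V) * (w' i : V)⁻¹) = 1 := by
      have : f w * (f w')⁻¹ = 1 := by rw [h]; exact mul_inv_cancel _
      rw [← this]
      simp only [f, ← Finset.prod_inv_distrib, ← Finset.prod_mul_distrib, smul_mul', smul_inv']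
    have h2 := kernel_trivial hcop hrel hza hzc hzp hfix
      (fun i => (w i : V) * (w' i : V)⁻¹) (by
        intro i
        rw [smul_mul', smul_inv', mem_Fx.1 (w i).2, mem_Fx.1 (w' i).2]) h1 j
    simpa [mul_inv_eq_one] using h2
  have h3 := Nat.card_le_card_of_injective f hf
  rwa [Nat.card_fun, Nat.card_fin] at h3

end Cfsg.Agent.Lib.PCompl.Bound
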