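import Cfsg.Agent.Lib.PCompl.Module

/-!
# Coprime actions of `p`-groups: the reduction to the module lemma
-/

set_option autoImplicit false

namespace Cfsg.Agent.Lib.PCompl.Main

open Cfsg.Agent.Lib.PCompl.Bound Cfsg.Agent.Lib.PCompl.Module
open scoped Pointwise

universe u v

/-- The hereditary factorisation hypothesis. -/
def Her {P : Type u} [Group P] (C D : Set P) (V : Type v) [Group V] [MulDistribMulAction P V] :
    Prop :=
  ∀ R : Subgroup V, (∀ (g : P), ∀ x ∈ R, g • x ∈ R) → ∀ x ∈ R, ∀ c ∈ C, ∀ d ∈ D,
    ∃ y ∈ R, d • y = y ∧ c • (y⁻¹ * x) = y⁻¹ * x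

variable {P : Type u} [Group P]

/-- The action on an invariant subgroup. -/
@[reducible] def subAct {V : Type v} [Group V] [MulDistribMulAction P V] (R : Subgroup V)
    (hR : ∀ (g : P), ∀ x ∈ R, g • x ∈ R) : MulDistribMulAction P R where
  smul g r := ⟨g • (r : V), hR g r r.2⟩
  one_smul r := Subtype.ext (one_smul P (r : V))
  mul_smul g h r := Subtype.ext (mul_smul g h (r : V))
  smul_mul g r s := Subtype.ext (smul_mul' g (r : V) (s : V))
  smul_one g := Subtype.ext (smul_one g)

/-- The action on a quotient by an invariant normal subgroup. -/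
@[reducible] def quotAct {V : Type v} [Group V] [MulDistribMulAction P V] (U : Subgroup V)
    [U.Normal] (hU : ∀ (g : P), ∀ x ∈ U, g • x ∈ U) : MulDistribMulAction P (V ⧸ U) where
  smul g := QuotientGroup.map U U (MulDistribMulAction.toMonoidHom V g) (fun x hx => hU g x hx)
  one_smul q := by
    induction q using QuotientGroup.induction_on with
    | H x =>
      change (((1 : P) • x : V) : V ⧸ U) = x
      rw [one_smul]
  mul_smul g h q := by
    induction q using QuotientGroup.induction_on with
    | H x =>
      change (((g * h) • x : V) : V ⧸ U) = ((g • h • x : V) : V ⧸ U)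
      rw [mul_smul]
  smul_mul g r s := by
    exact map_mul _ r s
  smul_one g := by
    exact map_one _

lemma Her.sub {C D : Set P} {V : Type v} [Group V] [MulDistribMulAction P V] (h : Her C D V)
    (R : Subgroup V) (hR : ∀ (g : P), ∀ x ∈ R, g • x ∈ R) :
    letI := subAct R hR
    Her C D R := by
  letI := subAct R hR
  intro R' hR' x hx c hc d hd
  have hinv : ∀ (g : P), ∀ y ∈ R'.map R.subtype, g • y ∈ R'.map R.subtype := by
    rintro g _ ⟨r, hr, rfl⟩
    exact ⟨g • r, hR' g r hr, rfl⟩
  obtain ⟨y, ⟨r, hr, rfl⟩, hy1, hy2⟩ := h _ hinv x ⟨x, hx, rfl⟩ c hc d hd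
  exact ⟨r, hr, Subtype.ext hy1, Subtype.ext hy2⟩

lemma Her.quot {C D : Set P} {V : Type v} [Group V] [MulDistribMulAction P V] (h : Her C D V)
    (U : Subgroup V) [U.Normal] (hU : ∀ (g : P), ∀ x ∈ U, g • x ∈ U) :
    letI := quotAct U hU
    Her C D (V ⧸ U) := by
  letI := quotAct U hU
  intro R' hR' x hx c hc d hd
  obtain ⟨x₀, rfl⟩ := QuotientGroup.mk_surjective x
  have hinv : ∀ (g : P), ∀ y ∈ R'.comap (QuotientGroup.mk' U), g • y ∈ R'.comap (QuotientGroup.mk' U) := by
    intro g y hy
    exact hR' g _ hy
  obtain ⟨y, hy, hy1, hy2⟩ := h _ hinv x₀ hx c hc d hd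
  refine ⟨(y : V ⧸ U), hy, ?_, ?_⟩
  · change ((d • y : V) : V ⧸ U) = y
    rw [hy1]
  · change ((c • (y⁻¹ * x₀) : V) : V ⧸ U) = ((y⁻¹ * x₀ : V) : V ⧸ U)
    rw [hy2]

section

variable {V : Type v} [Group V] [Finite V] [MulDistribMulAction P V]

/-- Stability: trivial action on `U` and on `V / U`. -/
lemma stab (U : Subgroup V) {p : ℕ} [hp : Fact p.Prime] [Finite P] (hP : IsPGroup p P)
    (hcop : (Nat.card V).Coprime p) (g : P)
    (hU : ∀ u ∈ U, g • u = u) (hQ : ∀ x : V, x⁻¹ * (g • x) ∈ U) (x : V) : g • x = x := by
  set u := x⁻¹ * (g • x) with hu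
  have h1 : g • x = x * u := by rw [hu]; group
  have h2 : g • u = u := hU u (hQ x)
  have h3 : ∀ k : ℕ, g ^ k • x = x * u ^ k := by
    intro k
    induction k with
    | zero => simp
    | succ k ih =>
      rw [pow_succ', mul_smul, ih, smul_mul', smul_pow', h1, h2, pow_succ']
      group
  obtain ⟨n, hn⟩ := hP.exists_card_eq
  have h4 : g ^ (p ^ n) = 1 := by
    rw [← hn]
    exact pow_card_eq_one'
  have h5 := h3 (p ^ n)
  rw [h4, one_smul] at h5
  have h6 : u ^ (p ^ n) = 1 := by
    have := mul_eq_left.1 h5.symm
    exact this
  have h7 : orderOf u ∣ p ^ n := orderOf_dvd_of_pow_eq_one h6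
  have h8 : orderOf u ∣ Nat.card V := orderOf_dvd_natCard u
  have h9 : orderOf u = 1 :=
    Nat.eq_one_of_dvd_coprimes (Nat.Coprime.pow_right n hcop) h8 h7
  have h10 : u = 1 := orderOf_eq_one_iff.1 h9
  rw [h1, h10, mul_one]

/-- An invariant Sylow subgroup. -/
lemma exists_fixed_sylow {p : ℕ} [hp : Fact p.Prime] [Finite P] (hP : IsPGroup p P)
    (hcop : (Nat.card V).Coprime p) (r : ℕ) [hr : Fact r.Prime] :
    ∃ R : Sylow r V, ∀ (g : P), ∀ x ∈ (R : Subgroup V), g • x ∈ (R : Subgroup V) := by
  have h1 := hP.card_modEq_card_fixedPoints (Sylow r V)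
  by_cases hfix : Nonempty (MulAction.fixedPoints P (Sylow r V))
  · obtain ⟨⟨R, hR⟩⟩ := hfix
    refine ⟨R, ?_⟩
    intro g x hx
    have h2 : g • R = R := hR g
    have h3 : g • x ∈ g • (R : Subgroup V) := Subgroup.smul_mem_pointwise_smul x g _ hx
    rw [← Sylow.pointwise_smul_def, h2] at h3
    exact h3
  · exfalso
    rw [not_nonempty_iff] at hfix
    have h0 : Nat.card (MulAction.fixedPoints P (Sylow r V)) = 0 := Nat.card_of_isEmpty
    rw [h0] at h1
    have h2 : p ∣ Nat.card (Sylow r V) := (Nat.modEq_zero_iff_dvd).1 h1
    obtain ⟨R⟩ : Nonempty (Sylow r V) := inferInstance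
    have h3 : Nat.card (Sylow r V) ∣ Nat.card V :=
      (Sylow.card_dvd_index R).trans (Subgroup.index_dvd_card _)
    have h4 := h2.trans h3
    have h5 : p ∣ Nat.gcd (Nat.card V) p := Nat.dvd_gcd h4 dvd_rfl
    rw [hcop] at h5
    exact hp.out.one_lt.ne' (Nat.dvd_one.1 h5)

end

/-- The main induction. -/
theorem main {p : ℕ} [hp : Fact p.Prime] [Finite P] (hp3 : 3 ≤ p) (hP : IsPGroup p P)
    (C D : Set P) (hC : Subgroup.closure C = ⊤) (hD : Subgroup.closure D = ⊤) (n : ℕ) :
    ∀ (V : Type v) [Group V] [Finite V] [MulDistribMulAction P V], Nat.card V = n →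
      (Nat.card V).Coprime p → Her C D V → ∀ (g : P) (x : V), g • x = x := by
  induction n using Nat.strong_induction_on with
  | _ n ih =>
    intro V _ _ _ hn hcop hHer
    -- the reduction along an invariant normal subgroup
    have caseA : ∀ U : Subgroup V, U.Normal → (∀ (g : P), ∀ x ∈ U, g • x ∈ U) → U ≠ ⊥ → U ≠ ⊤ →
        ∀ (g : P) (x : V), g • x = x := by
      intro U hN hU hbot htop g x
      haveI := hN
      have hU1 : Nat.card U < n := by
        rw [← hn]
        apply lt_of_le_of_ne (Nat.le_of_dvd Nat.card_pos (Subgroup.card_subgroup_dvd_card U))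
        intro h
        exact htop (Subgroup.eq_top_of_card_eq U h)
      have hU2 : Nat.card (V ⧸ U) < n := by
        rw [← hn]
        have h1 : Nat.card (V ⧸ U) * Nat.card U = Nat.card V := by
          rw [mul_comm]
          exact Subgroup.card_mul_index U
        have h2 : 1 < Nat.card U := by
          rw [Finite.one_lt_card_iff_nontrivial]
          exact (Subgroup.nontrivial_iff_ne_bot U).2 hbot
        have h3 : 0 < Nat.card (V ⧸ U) := Nat.card_pos
        nlinarith
      have htriv1 : ∀ u ∈ U, g • u = u := by
        intro u hu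
        letI := subAct U hU
        have h1 := ih _ hU1 U rfl
          (Nat.Coprime.coprime_dvd_left (Subgroup.card_subgroup_dvd_card U) hcop)
          (hHer.sub U hU) g ⟨u, hu⟩
        exact congrArg Subtype.val h1
      have htriv2 : ∀ y : V, y⁻¹ * (g • y) ∈ U := by
        intro y
        letI := quotAct U hU
        have h1 := ih _ hU2 (V ⧸ U) rfl
          (Nat.Coprime.coprime_dvd_left (Subgroup.card_quotient_dvd_card U) hcop)
          (hHer.quot U hU) g (y : V ⧸ U)
        have h2 : ((g • y : V) : V ⧸ U) = y := h1
        rw [eq_comm, QuotientGroup.eq] at h2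
        exact h2
      exact stab U hP hcop g htriv1 htriv2 x
    by_cases hab : ∀ x y : V, x * y = y * x
    · -- the abelian case
      letI : CommGroup V := { (inferInstance : Group V) with mul_comm := hab }
      let φ : P →* MulAut V := MulDistribMulAction.toMulAut P V
      let A : Subgroup (MulAut V) := φ.range
      have hApg : IsPGroup p A := hP.of_surjective φ.rangeRestrict
        (MonoidHom.rangeRestrict_surjective _)
      have hact : ∀ (g : P) (v : V), (φ.rangeRestrict g) • v = g • v := fun _ _ => rfl
      have hsurj : Function.Surjective φ.rangeRestrict := MonoidHom.rangeRestrict_surjective _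
      have hsub : Subsingleton A := by
        refine module_lemma hp3 hApg hcop ?_ (φ.rangeRestrict '' C) (φ.rangeRestrict '' D) ?_ ?_ ?_
        · intro z hz hz1 v hv
          by_contra hv1
          -- the fixed points of `z` are a proper invariant subgroup
          have hinv : ∀ (g : P), ∀ y ∈ Fx (V := V) z, g • y ∈ Fx (V := V) z := by
            intro g y hy
            rw [mem_Fx] at hy ⊢
            have h1 : z * φ.rangeRestrict g = φ.rangeRestrict g * z :=
              (Subgroup.mem_center_iff.1 hz _).symm
            have h2 : z • (φ.rangeRestrict g • y) = φ.rangeRestrict g • (z • y) := by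
              rw [← mul_smul, h1, mul_smul]
            rw [hact, hy, hact] at h2
            exact h2
          have hbot : Fx (V := V) z ≠ ⊥ := by
            intro h
            have : v ∈ Fx (V := V) z := hv
            rw [h, Subgroup.mem_bot] at this
            exact hv1 this
          have htop : Fx (V := V) z ≠ ⊤ := by
            intro h
            apply hz1
            apply FaithfulSMul.eq_of_smul_eq_smul (α := V)
            intro y
            have : y ∈ Fx (V := V) z := by rw [h]; trivial
            rw [one_smul]
            exact this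
          have hall := caseA (Fx (V := V) z) inferInstance hinv hbot htop
          apply hz1
          obtain ⟨g, hg⟩ := hsurj z
          rw [← hg]
          apply FaithfulSMul.eq_of_smul_eq_smul (α := V)
          intro y
          rw [one_smul, hact]
          exact hall g y
        · rw [← MonoidHom.map_closure, hC, ← MonoidHom.range_eq_map, MonoidHom.range_eq_top]
          exact hsurj
        · rw [← MonoidHom.map_closure, hD, ← MonoidHom.range_eq_map, MonoidHom.range_eq_top]
          exact hsurj
        · rintro _ ⟨c, hc, rfl⟩ _ ⟨d, hd, rfl⟩ x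
          obtain ⟨y, _, hy1, hy2⟩ := hHer ⊤ (fun _ _ _ => trivial) x trivial c hc d hd
          exact ⟨y, hy1, hy2⟩
      intro g x
      have h1 : φ.rangeRestrict g = 1 := Subsingleton.elim _ _
      have h2 := hact g x
      rw [h1, one_smul] at h2
      exact h2.symm
    · -- the nonabelian case
      by_cases hrp : ∃ (r : ℕ) (_ : Fact r.Prime) (R : Sylow r V), (R : Subgroup V) = ⊤
      · obtain ⟨r, hr, R, htop⟩ := hrp
        have hV : IsPGroup r V := by
          intro x
          obtain ⟨k, hk⟩ := R.isPGroup' ⟨x, by rw [htop]; trivial⟩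
          exact ⟨k, congrArg Subtype.val hk⟩
        haveI : Nontrivial V := by
          by_contra hh
          rw [not_nontrivial_iff_subsingleton] at hh
          exact hab (fun x y => Subsingleton.elim _ _)
        haveI := hV.center_nontrivial
        have hZ : (Subgroup.center V) ≠ ⊥ :=
          (Subgroup.nontrivial_iff_ne_bot _).1 inferInstance
        have hZ2 : Subgroup.center V ≠ ⊤ := by
          intro h
          apply hab
          intro x y
          have : y ∈ Subgroup.center V := by rw [h]; trivial
          exact (Subgroup.mem_center_iff.1 this x)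
        have hinv : ∀ (g : P), ∀ x ∈ Subgroup.center V, g • x ∈ Subgroup.center V := by
          intro g x hx
          rw [Subgroup.mem_center_iff] at hx ⊢
          intro y
          have h1 := hx (g⁻¹ • y)
          have h2 := congrArg (fun v => g • v) h1
          simpa [smul_mul'] using h2
        exact caseA _ inferInstance hinv hZ hZ2
      · push Not at hrp
        let S : Subgroup V :=
          { carrier := {x | ∀ g : P, g • x = x}
            mul_mem' := by
              intro a b ha hb g
              rw [smul_mul', ha g, hb g]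
            one_mem' := fun g => smul_one g
            inv_mem' := by
              intro a ha g
              rw [smul_inv', ha g] }
        have hS : S = ⊤ := by
          apply Subgroup.eq_top_of_card_eq
          apply Nat.dvd_antisymm (Subgroup.card_subgroup_dvd_card S)
          rw [← Nat.factorization_prime_le_iff_dvd Nat.card_pos.ne' Nat.card_pos.ne']
          intro r hr
          haveI : Fact r.Prime := ⟨hr⟩
          obtain ⟨R, hR⟩ := exists_fixed_sylow (V := V) hP hcop r
          have hlt : Nat.card R < n := by
            rw [← hn]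
            apply lt_of_le_of_ne (Nat.le_of_dvd Nat.card_pos (Subgroup.card_subgroup_dvd_card _))
            intro h
            exact hrp r inferInstance R (Subgroup.eq_top_of_card_eq _ h)
          have hRS : (R : Subgroup V) ≤ S := by
            intro u hu g
            letI := subAct (R : Subgroup V) hR
            have h1 := ih _ hlt (R : Subgroup V) rfl
              (Nat.Coprime.coprime_dvd_left (Subgroup.card_subgroup_dvd_card _) hcop)
              (hHer.sub _ hR) g ⟨u, hu⟩
            exact congrArg Subtype.val h1
          have h1 : Nat.card R ∣ Nat.card S := Subgroup.card_dvd_of_le hRS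
          rw [Sylow.card_eq_multiplicity] at h1
          exact (Nat.Prime.pow_dvd_iff_le_factorization hr Nat.card_pos.ne').1 h1
        intro g x
        have : x ∈ S := by rw [hS]; trivial
        exact this g

end Cfsg.Agent.Lib.PCompl.Main
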