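import Cfsg.Agent.Lib.PCompl.Bound

/-!
# A module lemma for coprime actions of `p`-groups (`p ≥ 3`)
-/

set_option autoImplicit false

namespace Cfsg.Agent.Lib.PCompl.Module

open Cfsg.Agent.Lib.PCompl.Bound

variable {A V : Type*} [Group A] [Finite A] [CommGroup V] [Finite V] [MulDistribMulAction A V]
  [FaithfulSMul A V]

lemma exists_mem_not_le {C : Set A} (hC : Subgroup.closure C = ⊤) {M : Subgroup A} (hM : M ≠ ⊤) :
    ∃ c ∈ C, c ∉ M := by
  by_contra hh
  push Not at hh
  apply hM
  rw [eq_top_iff, ← hC, Subgroup.closure_le]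
  exact hh

/-- An element of order `p` in the second centre. -/
lemma exists_second_center {p : ℕ} [hp : Fact p.Prime] (hA : IsPGroup p A)
    (hne : Subgroup.center A ≠ ⊤) :
    ∃ a : A, a ∉ Subgroup.center A ∧ a ^ p ∈ Subgroup.center A ∧
      ∀ g : A, g * a * g⁻¹ * a⁻¹ ∈ Subgroup.center A := by
  set Z := Subgroup.center A with hZ
  haveI : Nontrivial (A ⧸ Z) := by
    rw [QuotientGroup.nontrivial_iff]
    exact hne
  have hQ : IsPGroup p (A ⧸ Z) := hA.to_quotient Z
  haveI := hQ.center_nontrivial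
  have hcp : IsPGroup p (Subgroup.center (A ⧸ Z)) := IsPGroup.to_subgroup hQ _
  have hdvd : p ∣ Nat.card (Subgroup.center (A ⧸ Z)) := by
    obtain ⟨n, hn⟩ := hcp.exists_card_eq
    have h1 : 1 < Nat.card (Subgroup.center (A ⧸ Z)) := Finite.one_lt_card
    rw [hn] at h1 ⊢
    have hn0 : n ≠ 0 := by
      rintro rfl
      simp at h1
    exact dvd_pow_self p hn0
  obtain ⟨q, hq⟩ := exists_prime_orderOf_dvd_card' (G := Subgroup.center (A ⧸ Z)) p hdvd
  obtain ⟨a, ha⟩ := QuotientGroup.mk_surjective (q : A ⧸ Z)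
  have hq1 : (q : A ⧸ Z) ≠ 1 := by
    intro h
    have : q = 1 := Subtype.ext h
    rw [this, orderOf_one] at hq
    exact hp.out.one_lt.ne hq
  refine ⟨a, ?_, ?_, ?_⟩
  · intro h
    apply hq1
    rw [← ha]
    exact (QuotientGroup.eq_one_iff a).2 h
  · rw [← QuotientGroup.eq_one_iff, QuotientGroup.mk_pow, ha]
    have := pow_orderOf_eq_one q
    rw [hq] at this
    exact congrArg Subtype.val this
  · intro g
    rw [← QuotientGroup.eq_one_iff]
    have h1 : ((g * a * g⁻¹ * a⁻¹ : A) : A ⧸ Z) =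
        (g : A ⧸ Z) * (a : A ⧸ Z) * (g : A ⧸ Z)⁻¹ * (a : A ⧸ Z)⁻¹ := rfl
    rw [h1, ha]
    have h2 := (Subgroup.mem_center_iff.1 q.2) (g : A ⧸ Z)
    rw [h2]
    group

theorem module_lemma {p : ℕ} [hp : Fact p.Prime] (hp3 : 3 ≤ p) (hA : IsPGroup p A)
    (hcop : (Nat.card V).Coprime p)
    (hz : ∀ z ∈ Subgroup.center A, z ≠ 1 → ∀ v : V, z • v = v → v = 1)
    (C D : Set A) (hC : Subgroup.closure C = ⊤) (hD : Subgroup.closure D = ⊤)
    (hV : ∀ c ∈ C, ∀ d ∈ D, ∀ x : V, ∃ y : V, d • y = y ∧ c • (y⁻¹ * x) = y⁻¹ * x) :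
    Subsingleton A := by
  by_contra hnon
  rw [not_subsingleton_iff_nontrivial] at hnon
  -- `V` is nontrivial
  have hVnt : Nontrivial V := by
    by_contra hh
    rw [not_nontrivial_iff_subsingleton] at hh
    apply (not_subsingleton_iff_nontrivial.2 hnon)
    constructor
    intro g h
    apply FaithfulSMul.eq_of_smul_eq_smul (α := V)
    intro v
    exact Subsingleton.elim _ _
  have hVcard : 2 ≤ Nat.card V := Finite.one_lt_card
  by_cases hcen : Subgroup.center A = ⊤
  · -- abelian case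
    have hne1 : (⊥ : Subgroup A) ≠ ⊤ := bot_ne_top
    obtain ⟨c, hc, hc1⟩ := exists_mem_not_le hC hne1
    obtain ⟨d, hd, hd1⟩ := exists_mem_not_le hD hne1
    have hc1' : c ≠ 1 := fun h => hc1 (by rw [h]; exact Subgroup.one_mem _)
    have hd1' : d ≠ 1 := fun h => hd1 (by rw [h]; exact Subgroup.one_mem _)
    have hall : ∀ x : V, x = 1 := by
      intro x
      obtain ⟨y, hy1, hy2⟩ := hV c hc d hd x
      have h1 : y = 1 := hz d (by rw [hcen]; trivial) hd1' y hy1
      subst h1
      have h2 := hz c (by rw [hcen]; trivial) hc1' _ hy2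
      simpa using h2
    obtain ⟨v, hv⟩ := exists_ne (1 : V)
    exact hv (hall v)
  · obtain ⟨a, ha1, ha2, ha3⟩ := exists_second_center hA hcen
    have hM : Subgroup.centralizer ({a} : Set A) ≠ ⊤ := by
      intro h
      apply ha1
      rw [Subgroup.mem_center_iff]
      intro g
      have : g ∈ Subgroup.centralizer ({a} : Set A) := by rw [h]; trivial
      rw [Subgroup.mem_centralizer_iff] at this
      exact (this a rfl).symm
    have key : ∀ c : A, c ∉ Subgroup.centralizer ({a} : Set A) →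
        Nat.card (Fx (V := V) c) ^ p ≤ Nat.card V := by
      intro c hc
      set z := c * a * c⁻¹ * a⁻¹ with hzdef
      have hzc : z ∈ Subgroup.center A := ha3 c
      have hz1 : z ≠ 1 := by
        intro h
        apply hc
        rw [Subgroup.mem_centralizer_iff]
        intro y hy
        rw [Set.mem_singleton_iff] at hy
        subst hy
        have h1 : c * y * c⁻¹ = y := by
          rw [hzdef] at h
          exact mul_inv_eq_one.1 h
        exact (mul_inv_eq_iff_eq_mul.1 h1).symm
      have hrel : c * a * c⁻¹ = z * a := by rw [hzdef]; group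
      have hcomm : ∀ g : A, z * g = g * z := fun g => (Subgroup.mem_center_iff.1 hzc g).symm
      have hzp : z ^ p = 1 := by
        have h1 : c * a ^ p * c⁻¹ = z ^ p * a ^ p := by
          rw [← conj_pow, hrel, (show Commute z a from hcomm a).mul_pow]
        have h2 : c * a ^ p = a ^ p * c := (Subgroup.mem_center_iff.1 ha2 c)
        rw [h2, mul_inv_cancel_right] at h1
        exact (mul_eq_right.1 h1.symm)
      have hord : orderOf z = p := orderOf_eq_prime hzp hz1
      refine card_Fx_pow_le hcop hrel (hcomm a) (hcomm c) hzp ?_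
      intro l hl v hv
      refine hz (z ^ l) (Subgroup.pow_mem _ hzc l) ?_ v hv
      intro h
      apply hl
      rw [← hord]
      exact orderOf_dvd_of_pow_eq_one h
    obtain ⟨c, hc, hc1⟩ := exists_mem_not_le hC hM
    obtain ⟨d, hd, hd1⟩ := exists_mem_not_le hD hM
    have h1 := key c hc1
    have h2 := key d hd1
    have h3 : Nat.card V ≤ Nat.card (Fx (V := V) d) * Nat.card (Fx (V := V) c) := by
      rw [← Nat.card_prod]
      refine Nat.card_le_card_of_surjective
        (fun q : Fx (V := V) d × Fx (V := V) c => (q.1 : V) * (q.2 : V)) ?_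
      intro x
      obtain ⟨y, hy1, hy2⟩ := hV c hc d hd x
      exact ⟨(⟨y, hy1⟩, ⟨y⁻¹ * x, hy2⟩), by simp⟩
    have h4 : Nat.card V ^ p ≤ Nat.card V ^ 2 := by
      calc Nat.card V ^ p ≤ (Nat.card (Fx (V := V) d) * Nat.card (Fx (V := V) c)) ^ p :=
            Nat.pow_le_pow_left h3 p
        _ = Nat.card (Fx (V := V) d) ^ p * Nat.card (Fx (V := V) c) ^ p := mul_pow _ _ _
        _ ≤ Nat.card V * Nat.card V := Nat.mul_le_mul h2 h1
        _ = Nat.card V ^ 2 := (sq _).symm
    have h5 : Nat.card V ^ 3 ≤ Nat.card V ^ p := Nat.pow_le_pow_right (by omega) hp3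
    have h6 : Nat.card V ^ 3 ≤ Nat.card V ^ 2 := le_trans h5 h4
    have h7 : Nat.card V ^ 2 < Nat.card V ^ 3 := Nat.pow_lt_pow_right (by omega) (by norm_num)
    omega

end Cfsg.Agent.Lib.PCompl.Module
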